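import Mathlib

set_option autoImplicit false

namespace Cfsg.Agent.H1.Alt

open MulAction Equiv

theorem exists_notMem {α : Type*} [Fintype α] (s : Finset α)
    (h : s.card < Fintype.card α) : ∃ x, x ∉ s := by
  by_contra hc
  push Not at hc
  rw [Finset.eq_univ_iff_forall.2 hc] at h
  simp at h

/-- If the image of `G` contains the alternating group then every 3-cycle is induced. -/
theorem exists_three_cycle {G Ω : Type*} [Group G] [MulAction G Ω] [Fintype Ω] [DecidableEq Ω]
    (hA : alternatingGroup Ω ≤ (toPermHom G Ω).range) {x y z : Ω} (hxy : x ≠ y) (hxz : x ≠ z)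
    (hyz : y ≠ z) :
    ∃ g : G, g • x = y ∧ g • y = z ∧ g • z = x ∧ ∀ w, w ≠ x → w ≠ y → w ≠ z → g • w = w := by
  obtain ⟨g, hg⟩ := hA (show swap x z * swap x y ∈ alternatingGroup Ω by
    simp [Perm.mem_alternatingGroup, hxy, hxz])
  have h : ∀ w, g • w = swap x z (swap x y w) := fun w => congr($hg w)
  refine ⟨g, ?_, ?_, ?_, fun w h1 h2 h3 => ?_⟩
  · rw [h, swap_apply_left, swap_apply_of_ne_of_ne hxy.symm hyz]
  · rw [h, swap_apply_right, swap_apply_left]
  · rw [h, swap_apply_of_ne_of_ne hxz.symm hyz.symm, swap_apply_right]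
  · rw [h, swap_apply_of_ne_of_ne h1 h2, swap_apply_of_ne_of_ne h1 h3]

theorem isPreprimitive_range {G Ω : Type*} [Group G] [MulAction G Ω] (h : IsPreprimitive G Ω) :
    IsPreprimitive (toPermHom G Ω).range Ω :=
  IsPreprimitive.of_surjective (φ := (toPermHom G Ω).rangeRestrict) (f := ⟨id, fun _ _ => rfl⟩)
    Function.surjective_id

/-- Jordan's theorem for a general action: a non-trivial element moving at most three points. -/
theorem alt_le_of_support_le_three {G Ω : Type*} [Group G] [MulAction G Ω] [Fintype Ω]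
    [DecidableEq Ω] (h : IsPreprimitive G Ω) (g : G) (hg : ∃ x : Ω, g • x ≠ x) (s : Finset Ω)
    (hs : s.card ≤ 3) (hgs : ∀ x, x ∉ s → g • x = x) :
    alternatingGroup Ω ≤ (toPermHom G Ω).range := by
  have h1 : (toPermHom G Ω g).support ⊆ s := by
    intro x hx
    by_contra hc
    exact (Perm.mem_support.1 hx) (hgs x hc)
  have h2 : toPermHom G Ω g ≠ 1 := by
    obtain ⟨x, hx⟩ := hg
    intro h
    exact hx congr($h x)
  have h3 := (Finset.card_le_card h1).trans hs
  have h4 := Perm.two_le_card_support_of_ne_one h2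
  rcases (show (toPermHom G Ω g).support.card = 2 ∨ (toPermHom G Ω g).support.card = 3 by omega)
    with h5 | h5
  · rw [Perm.subgroup_eq_top_of_isPreprimitive_of_isSwap_mem (isPreprimitive_range h) _
      (Perm.card_support_eq_two.1 h5) ⟨g, rfl⟩]
    exact le_top
  · exact Perm.alternatingGroup_le_of_isPreprimitive_of_isThreeCycle_mem (isPreprimitive_range h)
      (card_support_eq_three_iff.1 h5) ⟨g, rfl⟩

end Cfsg.Agent.H1.Alt
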