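import Cfsg.Agent.H1.Bx2

/-! Bender reduction when the involutions fixing a point commute, part 3. -/

set_option autoImplicit false
set_option linter.unusedSectionVars false

namespace Cfsg.Agent.H1.Bx
open Subgroup MulAction H5.Odd Cfsg.Agent.Bd

section
variable {G Ω : Type*} [Group G] [Finite G] [MulAction G Ω] {N Y R K : Subgroup G} {a b c : Ω} {s t u k y g : G} {p : ℕ}

variable [Finite Ω] (h : Mn G Ω) (hL : L1 G Ω) (hP : PS G a t s) (hW : St (CA G a) a (t • a) = ⊥)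
include h hP hW

omit [Finite Ω] in
theorem Mn.W1 {B : Subgroup G} (hB : B ≤ St ⊤ a (t • a)) (hn : ∀ k ∈ KK ⊤ a t, ∀ x ∈ B, k * x * k⁻¹ ∈ B)
    (hu : u ∈ IA (centralizer (B : Set G)) a) : B = ⊥ := by
  refine eq_bot_iff.2 fun x hx => hW.le (mem_St.2 ⟨fun v hv => ?_, (mem_St.1 (hB hx)).2⟩)
  obtain ⟨k, hk, rfl⟩ := h.se.K_trans (mem_top t) hP.ti hP.ta ⟨trivial, hu.2⟩ hv
  have := hu.1 _ (hn _ (KK_inv hk) x hx)
  calc _ = k * (u * (k⁻¹ * x * k⁻¹⁻¹)) * k⁻¹ := by group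
    _ = _ := by rw [← this]; group

include hL

theorem Mn.dv : DV (St ⊤ a (t • a)) t :=
  ⟨h.se.odd_St hP.ta.symm, h.solv hP.ta hW le_rfl, hP.ti, St_conj (mem_top t) hP.ti,
    fun _ hB hn => h.W1 hP hW (hB.trans inf_le_left) (fun k hk => hn k hk.1) ⟨fun x hx =>
      (hP.vs x (hB hx).1).1 (mem_centralizer_singleton_iff.1 (hB hx).2), hP.si, hP.sa⟩,
    fun _ => h.gal hL hP.ti hP.ta ⟨trivial, hP.si, hP.sa⟩ fun d hd => (hP.vs d hd).1⟩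

omit hL hW [Finite Ω] in
theorem Mn.exists_K : ∃ k ∈ KK ⊤ a t, k ≠ 1 := by
  obtain ⟨u, hu, v, hv, e, -⟩ := h.two_inv a
  obtain ⟨k, hk, rfl⟩ := h.se.K_trans (mem_top t) hP.ti hP.ta hu hv
  exact ⟨k, hk, fun e' => e (by simp [e'])⟩

omit hL [Finite Ω] in
theorem Mn.exists_B : ∃ (q : ℕ) (B : Subgroup G), q.Prime ∧ B ≤ St ⊤ a (t • a) ∧
    (∀ g ∈ St ⊤ a (t • a), ∀ x ∈ B, g * x * g⁻¹ ∈ B) ∧ (∀ x ∈ B, x ^ q = 1) ∧
    q ∣ Nat.card (IA (⊤ : Subgroup G) a) ∧ ∃ k ∈ KK ⊤ a t, k ≠ 1 ∧ k ∈ B := by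
  have ho := h.se.odd_St (Y := ⊤) hP.ta.symm
  obtain ⟨k, hk, k1⟩ := h.exists_K hP
  obtain ⟨q, B, hq, b1, b2, b3, -, b4⟩ := exists_min (insert t ((St ⊤ a (t • a) : Subgroup G) : Set G)) (h.solv hP.ta hW le_rfl)
    (ne_bot_iff_exists_ne_one.2 ⟨⟨k, hk.1⟩, fun e => k1 (congrArg Subtype.val e)⟩) (by
      rintro g (rfl | hg)
      · exact St_conj (mem_top g) hP.ti
      · exact fun x hx => mul_mem (mul_mem hg hx) (Subgroup.inv_mem _ hg))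
  obtain ⟨k, hk, k1, hkB⟩ : ∃ k ∈ KK ⊤ a t, k ≠ 1 ∧ k ∈ B := by
    by_contra hn
    push Not at hn
    refine b1 (h.W1 hP hW b2 (fun k hk => b3 k (.inr hk.1)) (u := s) ⟨fun x hx => (hP.vs x (b2 hx)).1 ?_, hP.si, hP.sa⟩)
    obtain ⟨v, k, -, e, hk, rfl⟩ := factor hP.ti.2 (ho.of_dvd_nat (card_dvd_of_le b2)) (b3 t (.inl rfl)) hx
    by_cases k1 : k = 1
    · rwa [k1, mul_one]
    · exact absurd hk.1 (hn k ⟨b2 hk.1, hk.2⟩ k1)
  have := Fact.mk hq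
  exact ⟨q, B, hq, b2, fun g hg => b3 g (.inr hg), b4,
    h.se.dvd_card_IA hP.ti hP.ta hk hq (orderOf_eq_prime (b4 k hkB) k1), k, hk, k1, hkB⟩

theorem Mn.th (hp : p.Prime) (p2 : p ≠ 2) (hN : ∀ g ∈ N, g • a = a)
    (hS : ∀ Y ≤ St N a (t • a), Y ≠ ⊥ → T2 a Y → ∀ x ∈ centralizer (Y : Set G), x • a = a →
      (∃ n : ℕ, x ^ 2 ^ n = 1) → x ∈ N) : TH N a (t • a) p := by
  refine ⟨hP.ta, hN, p2, hS, fun E hE ep z hz r hr zr z1 rz u hu => ?_⟩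
  have := Fact.mk hp
  by_contra hn
  push Not at hn
  have hE' : E ≤ St ⊤ a (t • a) := fun x hx => mem_St.2 ⟨trivial, (mem_St.1 (hE hx)).2⟩
  obtain ⟨q, B, hq, b2, b3, b4, b5, k, -, k1, hkB⟩ := h.exists_B hP hW
  have pz : IsPGroup p (zpowers z) := pelt_pgroup (n := 1) (by simpa using ep z hz)
  have hz' : ∀ x ∈ zpowers z, x • a = a := fun x hx => (mem_St.1 (hE' (zpowers_le.2 hz hx))).2.1
  have := (exists_cent_inv pz hz' pz hz' ⟨centralizer_le (zpowers_le.2 hz) hu.1, hu.2⟩ (hn z hz z1)).1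
  have hle := H3.Cop.le_of (p := p) (K := B) (T := St ⊤ a (t • a) ⊓ centralizer {u}) ep (fun e he => b3 e (hE' he))
    (fun e he => ⟨hE' he, mem_centralizer_singleton_iff.2 (hu.1 e he)⟩) (fun e he e1 k hk hT => ⟨b2 hk, ?_⟩)
    (fun k hk _ e => ?_) hz hr zr z1 rz
  · rw [h.W1 hP hW b2 (fun k hk => b3 k hk.1) ⟨fun x hx => mem_centralizer_singleton_iff.1 (hle hx).2, hu.2⟩] at hkB
    exact k1 hkB
  · by_contra hk'
    have c : ∀ {x w : G}, x * w = w * x → w ∈ centralizer (zpowers x : Set G) := fun {x w} e y hy =>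
      mem_centralizer_singleton_iff.1 ((zpowers_le.2 (mem_centralizer_singleton_iff.2 e) : _ ≤ centralizer {w}) hy)
    refine hn e he e1 ⟨u, ⟨c (hu.1 e he), hu.2⟩, k * u * k⁻¹, ⟨c ?_, hu.2.1.conj k, ?_⟩,
      fun e' => hk' (mem_centralizer_singleton_iff.2 (eq_mul_inv_iff_mul_eq.1 e').symm)⟩
    · calc _ = k * (k⁻¹ * e * k * u) * k⁻¹ := by group
        _ = _ := by rw [mem_centralizer_singleton_iff.1 hT.2]; group
    · simpa [(mem_St.1 (b2 hk)).2.1] using conj_fix hu.2.2 k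
  · exact orderOf_eq_one_iff.1 (Nat.eq_one_of_dvd_coprimes ((Nat.coprime_primes hp hq).2 fun e => this (e ▸ b5))
      (orderOf_dvd_of_pow_eq_one e) (orderOf_dvd_of_pow_eq_one (b4 k hk)))

omit hL hW [Finite Ω] in
theorem Mn.two_M0 {x : G} (hx : x • a = a) (e : ∃ n : ℕ, x ^ 2 ^ n = 1) : x ∈ M0 G a t :=
  e.elim fun _ e => two_mem_Gen (h.se.odd_St hP.ta.symm) hx e

theorem Mn.caseZ' (h0 : St (M0 G a t) a (t • a) = ⊥) (hg : g • a = a) : ∃ q ∈ CA G a, q • t • a = g • t • a := by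
  obtain ⟨q, B, hq, b2, b3, b4, b5, k, hk, k1, hkB⟩ := h.exists_B hP hW
  have := Fact.mk hq
  have h1 : ∀ x ∈ M0 G a t, x • t • a = t • a → x = 1 := fun x hx e => h0.le (mem_St.2 ⟨hx, Gen_le hx, e⟩)
  obtain ⟨S, hS, h2, h3⟩ := h.SE0 hL hP (N := M0 G a t) (A := St ⊤ a (t • a)) (fun x hx => Gen_le hx)
    (even_card_of_involution (h.two_M0 hP hP.sa ⟨1, by simp [sq, hP.si.2]⟩) hP.si.1 hP.si.2) h1
    (h.not_dvd hL hP hq b5 (fun x hx => Gen_le hx) (fun g => M0_conj) h1) (pgroup_of_exp b4) hk k1 hkB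
    (fun g hg => M0_conj (mem_St.1 (b2 hg)).2.1) (fun g hg => M0_conj (mem_St.1 hg).2.1) b3 fun k hk => hk.1
  exact h.caseZ hL hP ⟨hS.pg, hS.le.trans Gen_le, fun R hR hle => hS.max R hR fun x hx =>
    h.two_M0 hP (hle hx) (pelt_of_mem hR hx)⟩ h2 h3 hg

end

section
variable {G Ω : Type*} [Group G] [Finite G] [MulAction G Ω] {N Y R K : Subgroup G} {a b c : Ω} {s t u k y g : G} {p : ℕ}

variable [Finite Ω] (h : Mn G Ω) (hL : L1 G Ω) (hP : PS G a t s) (hW : St (CA G a) a (t • a) = ⊥)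
include h hP

omit [Finite Ω] in
theorem Mn.t1 (hy : y ∈ St ⊤ a (t • a)) (hyt : y * t = t * y) (h1 : ¬ T2 a (zpowers y)) :
    ∀ k ∈ KK ⊤ a t, y * k = k * y → k = 1 := fun k hk e => by
  by_contra k1
  exact h1 (t2_of_K h.se hP.ti hP.ta ⟨cent_zpowers ((hP.vs y hy).1 hyt), hP.si, hP.sa⟩ hk k1 (cent_zpowers e))

omit [Finite Ω] in
/-- a pure subgroup can be conjugated into `V` -/
theorem Mn.into_V (hY : Y ≤ St ⊤ a (t • a)) (hu : u ∈ IA (centralizer (Y : Set G)) a) :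
    ∃ k ∈ KK ⊤ a t, ∀ x ∈ cj k Y, x * t = t * x := by
  obtain ⟨k, hk, e⟩ := h.se.K_trans (mem_top t) hP.ti hP.ta ⟨trivial, hu.2⟩ ⟨trivial, hP.si, hP.sa⟩
  refine ⟨k, hk, fun x hx => (hP.vs x ?_).2 ?_⟩
  · simpa [mul_assoc] using mul_mem (mul_mem hk.1 (hY (mem_cj.1 hx))) (Subgroup.inv_mem _ hk.1)
  · calc _ = k * (k⁻¹ * x * k * u) * k⁻¹ := by rw [← e]; group
      _ = _ := by rw [hu.1 _ (mem_cj.1 hx), ← e]; group

include hL hW

theorem Mn.th0 (hp : p.Prime) (p2 : p ≠ 2) : TH (M0 G a t) a (t • a) p :=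
  h.th hL hP hW hp p2 (fun _ hg => Gen_le hg) fun _ _ _ _ _ _ e e' => h.two_M0 hP e e'

theorem Mn.exists_y (h0 : St (M0 G a t) a (t • a) ≠ ⊥) : ∃ (p : ℕ) (R : Subgroup G) (y : G), p.Prime ∧ p ≠ 2 ∧
    SylIn p R (St (M0 G a t) a (t • a)) ∧ ¬ R ≤ ⁅St (M0 G a t) a (t • a), St (M0 G a t) a (t • a)⁆ ∧ IsCyclic R ∧
    (∀ x ∈ R, x * t = t * x) ∧ y ∈ R ∧ orderOf y = p ∧ ¬ T2 a (zpowers y) := by
  have hle : St (M0 G a t) a (t • a) ≤ St ⊤ a (t • a) := fun x hx => mem_St.2 ⟨trivial, (mem_St.1 hx).2⟩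
  obtain ⟨p, R, hp, p2, hR, h1, h2, ⟨u, hu⟩, h3⟩ := h.exists_pure hL (card_dvd_of_le hle) hP.ta
    (fun p => h.th0 hL hP hW) h0 (h.solv hP.ta hW hle)
  have := Fact.mk hp
  obtain ⟨k, hk, e⟩ := h.into_V hP (hR.le.trans hle) hu
  have hk' := mem_KK.1 hk
  have hn := St_norm (M0_conj (t := t) hk'.2.1) hk'.2.1 hk'.2.2.1
  obtain ⟨y, hy⟩ := exists_prime_orderOf_dvd_card' p (G := R)
    (hR.pg.card_eq_or_dvd.resolve_left fun e => h1 (card_eq_one.1 e ▸ bot_le))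
  refine ⟨p, cj k R, k * y * k⁻¹, hp, p2, hR.cj' hn, fun e => h1 fun x hx => ?_, ?_, e, conj_mem_cj y.2, ?_, fun e => ?_⟩
  · simpa [mul_assoc] using conj_inv_mem (comm_conj hn) _ (e (conj_mem_cj hx))
  · obtain ⟨x, rfl⟩ := exists_gen h2
    rw [cj, MonoidHom.map_zpowers]; infer_instance
  · rw [show k * y * k⁻¹ = MulAut.conj k (y : G) from rfl, MulEquiv.orderOf_eq, orderOf_coe, hy]
  · refine h3 (zpowers (y : G)) (zpowers_le.2 y.2) (zpowers_ne_bot.2 fun e => hp.one_lt.ne ?_)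
      ((e.cj (inv_smul_eq_iff.2 hk'.2.1.symm)).mono (zpowers_le.2 (mem_cj.2 (by simp))))
    rw [← hy, ← orderOf_coe, e, orderOf_one]

theorem Mn.exists_Kgrp (hp : p.Prime) (hR : SylIn p R (St (M0 G a t) a (t • a)))
    (h1 : ¬ R ≤ ⁅St (M0 G a t) a (t • a), St (M0 G a t) a (t • a)⁆) (h2 : IsCyclic R) (h3 : ∀ x ∈ R, x * t = t * x)
    (hy : y ∈ R) (ho : orderOf y = p) (h4 : ¬ T2 a (zpowers y)) : ∃ K : Subgroup G, (K : Set G) = KK ⊤ a t := by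
  have := Fact.mk hp
  have hle : St (M0 G a t) a (t • a) ≤ St ⊤ a (t • a) := fun x hx => mem_St.2 ⟨trivial, (mem_St.1 hx).2⟩
  have hn : ∀ g ∈ St ⊤ a (t • a), ∀ x ∈ St (M0 G a t) a (t • a), g * x * g⁻¹ ∈ St (M0 G a t) a (t • a) :=
    fun g hg => St_norm (M0_conj (mem_St.1 hg).2.1) (mem_St.1 hg).2.1 (mem_St.1 hg).2.2
  obtain ⟨N, n1, n2, n3, n4⟩ := burnside hR (cent_of_cyclic hR h2 h1)
  obtain ⟨U, u1, u2, u3, u4⟩ := exists_Op' (p := p) (St (⊤ : Subgroup G) a (t • a))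
  have hNU := u4 N (n1.trans hle) (fun g hg => n4 g (hn g hg)) n2
  have u5 : ∀ d ∈ St ⊤ a (t • a), ∀ x ∈ U, d * x * d⁻¹ ∈ U := fun d hd =>
    u3 d fun x hx => mul_mem (mul_mem hd hx) (Subgroup.inv_mem _ hd)
  have hyD := hle (hR.le hy)
  refine d1 (h.dv hL hP hW) hp hyD (h3 y hy) ho (h.t1 hP hyD (h3 y hy) h4) u2 fun k hk => ?_
  obtain ⟨x, hx, e⟩ := hR.frattini (hn k hk.1)
  obtain ⟨n, hn', r, hr, rfl⟩ := n3 x hx
  have m := mul_mem (hle hx) hk.1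
  have e1 : n * r * k * s = s * (n * r * k) := by
    by_contra hne
    obtain ⟨x, rfl⟩ := exists_gen h2
    have yp : y ^ p = 1 := ho ▸ pow_orderOf_eq_one y
    have hs : s ∈ centralizer (zpowers y : Set G) := cent_zpowers ((hP.vs y hyD).1 (h3 y hy))
    refine h4 ⟨s, ⟨hs, hP.si, hP.sa⟩, n * r * k * s * (n * r * k)⁻¹, ⟨cent_zpowers ?_, hP.si.conj _, ?_⟩,
      fun e => hne (eq_mul_inv_iff_mul_eq.1 e).symm⟩
    · have := hs _ (H2.PGroup.mem_zpowers_of_pow_eq_one hy (conj_inv_mem (mem_norm.1 e) y hy)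
        (fun e => hp.one_lt.ne (by rw [← ho, e, orderOf_one])) yp
        (by simpa [yp, mul_assoc] using conj_pow (a := (n * r * k)⁻¹) (b := y) (i := p)))
      calc _ = n * r * k * ((n * r * k)⁻¹ * y * (n * r * k) * s) * (n * r * k)⁻¹ := by group
        _ = _ := by rw [this]; group
    · simpa [(mem_St.1 m).2.1] using conj_fix hP.sa (n * r * k)
  have e2 : Commute (r⁻¹ * (n * r * k)) t := (show Commute r t from h3 r hr).inv_left.mul_left ((hP.vs _ m).2 e1)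
  have m1 : r⁻¹ * n⁻¹ * r⁻¹⁻¹ ∈ U := u5 _ (Subgroup.inv_mem _ (hle (hR.le hr))) _ (U.inv_mem (hNU hn'))
  have m2 := mul_mem (Subgroup.inv_mem _ (hle (hR.le hr))) m
  have e3 : k = r⁻¹ * n⁻¹ * r⁻¹⁻¹ * (r⁻¹ * (n * r * k)) := by group
  generalize r⁻¹ * (n * r * k) = v at *
  generalize r⁻¹ * n⁻¹ * r⁻¹⁻¹ = w at *
  subst e3
  refine mul_mem m1 (mem_of_sq' (odd_orderOf_of_mem (h.se.odd_St hP.ta.symm) m2) ?_)
  have e4 : t * w * t⁻¹ * v = (w * v)⁻¹ := by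
    rw [← hk.2, mul_assoc _ t⁻¹, ← e2.inv_right.eq]; group
  have := mul_mem (u5 _ m2 _ (U.inv_mem (u3 t (St_conj (mem_top t) hP.ti) _ m1))) (U.inv_mem m1)
  rwa [eq_mul_inv_of_mul_eq e4, show v * ((w * v)⁻¹ * v⁻¹)⁻¹ * v⁻¹ * w⁻¹ = v * v by group] at this

variable (hK : (K : Set G) = KK ⊤ a t)
include hK

omit hL hW in
theorem Mn.d3' {J : Subgroup G} (hN : ∀ g ∈ N, g • a = a) (hKN : K ≤ N) (hJ : J ≤ K) (hJ1 : J ≠ ⊥)
    (hv : ∀ v ∈ St N a (t • a) ⊓ centralizer {t}, v ≠ 1 → (∀ k ∈ K, v * k = k * v → k = 1) ∨ CommEq K J v) :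
    (∃ K' : Subgroup G, J ≤ K' ∧ K' < K ∧ ∀ g ∈ N, ∀ u ∈ IA (⊤ : Subgroup G) a, ∀ k ∈ K', ∃ k' ∈ K',
      g * (k * u * k⁻¹) * g⁻¹ = k' * (g * u * g⁻¹) * k'⁻¹) ∨
    (∀ u ∈ IA (⊤ : Subgroup G) a, ∀ v ∈ IA (⊤ : Subgroup G) a, u ≠ s → v ≠ s →
      ∃ c ∈ N, c * s = s * c ∧ c * u * c⁻¹ = v) ∨
    (∀ c ∈ N, c * s = s * c → ∀ u ∈ IA (⊤ : Subgroup G) a, ∃ v ∈ St N a (t • a) ⊓ centralizer {t},
      c * u * c⁻¹ = v * u * v⁻¹) := by
  have m : ∀ x, x ∈ K ↔ x ∈ KK ⊤ a t := fun x => by rw [← hK]; rfl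
  have ho := h.se.odd_St (Y := ⊤) hP.ta.symm
  obtain ⟨kc, kn⟩ := K_normal hP.ti.2 ho (St_conj (mem_top t) hP.ti) hK
  let _ : MulAction N (IA (⊤ : Subgroup G) a) :=
    { smul := fun g u => ⟨g * u * (g : G)⁻¹, by simpa [hN g g.2] using IA_conj (mem_top (g : G)) u.2⟩
      one_smul := fun u => Subtype.ext (by show (1 : G) * u * 1⁻¹ = u; simp)
      mul_smul := fun g h u => Subtype.ext (by
        show (g * h : G) * u * (g * h : G)⁻¹ = g * (h * u * (h : G)⁻¹) * (g : G)⁻¹; group) }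
  have sm : ∀ (g : N) (u : IA (⊤ : Subgroup G) a), ((g • u : IA (⊤ : Subgroup G) a) : G) = g * u * (g : G)⁻¹ :=
    fun _ _ => rfl
  set V := St N a (t • a) ⊓ centralizer {t}
  have hVD : ∀ v ∈ V, v ∈ St ⊤ a (t • a) := fun v hv => mem_St.2 ⟨trivial, (mem_St.1 hv.1).2⟩
  have hVN : V ≤ N := fun v hv => (mem_St.1 hv.1).1
  have hD : ∀ g : N, g ∈ K.subgroupOf N ⊔ V.subgroupOf N ↔ (g : G) • t • a = t • a := fun g => ⟨fun hg =>
    (sup_le (fun x hx => (mem_KK.1 ((m _).1 hx)).2.2.1) (fun x hx => (mem_St.1 hx.1).2.2) :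
      K.subgroupOf N ⊔ V.subgroupOf N ≤ (stabilizer G (t • a)).subgroupOf N) hg, fun hg => by
      obtain ⟨v, k, h1, h2, h3, e⟩ := h.se.factor_St (mem_top t) hP.ti hP.ta (mem_St.2 ⟨trivial, hN g g.2, hg⟩)
      have h4 := hKN ((m k).2 h3)
      have h5 : v ∈ N := by simpa [e] using mul_mem g.2 (N.inv_mem h4)
      rw [show g = ⟨v, h5⟩ * ⟨k, h4⟩ from Subtype.ext e]
      exact mul_mem (mem_sup_right ⟨mem_St.2 ⟨h5, (mem_St.1 h1).2⟩, mem_centralizer_singleton_iff.2 h2⟩)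
        (mem_sup_left ((m k).2 h3))⟩
  rcases d3 (G := N) (X := IA (⊤ : Subgroup G) a) (K := K.subgroupOf N) (V := V.subgroupOf N) (J := J.subgroupOf N)
    (s := ⟨s, trivial, hP.si, hP.sa⟩) (fun x hx y hy => Subtype.ext (kc _ hx _ hy))
    (by rw [Nat.card_congr (subgroupOfEquivOfLe hKN).toEquiv]
        exact ho.of_dvd_nat (card_dvd_of_le fun x hx => ((m x).1 hx).1))
    (by rw [Nat.card_congr (subgroupOfEquivOfLe hVN).toEquiv]; exact ho.of_dvd_nat (card_dvd_of_le hVD))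
    (fun x => by
      obtain ⟨k, hk, e⟩ := h.se.K_trans (mem_top t) hP.ti hP.ta ⟨trivial, hP.si, hP.sa⟩ x.2
      exact ⟨⟨k, hKN ((m k).2 hk)⟩, (m k).2 hk, Subtype.ext e⟩)
    (fun k hk e => Subtype.ext (h.se.K_comm hP.ti hP.ta ((m _).1 hk) hP.si hP.sa
      (mul_inv_eq_iff_eq_mul.1 (congrArg Subtype.val e)).symm))
    (fun v hv => Subtype.ext (mul_inv_eq_iff_eq_mul.2 ((hP.vs _ (hVD _ hv)).1 (mem_centralizer_singleton_iff.1 hv.2))))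
    (fun v hv k hk => kn _ (hVD _ hv) _ hk)
    (fun k hk v hv hn g hg => (hD g).2 (by
      by_contra hne
      have h1 := mul_mem ((m _).1 hk).1 (hVD _ hv)
      obtain ⟨l, hl, e⟩ := hP.fix3 _ h1 ((g : G)⁻¹ • t • a) (fun e => hP.ta (by rw [inv_smul_eq_iff.1 e, hN g g.2]))
        (fun e => hne (inv_smul_eq_iff.1 e).symm)
        (by rw [eq_inv_smul_iff, ← mul_smul, ← mul_smul]; exact (hD _).1 hg)
      have h2 := kn _ (Subgroup.inv_mem _ (hVD _ hv)) _ (mul_mem ((m _).2 hl) hk)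
      have := (factor_unique ho (mem_centralizer_singleton_iff.1 hv.2) e ((m _).1 (mul_mem h2 (K.inv_mem ((m _).2 hl))))
        inverted_one (by group)).1
      exact hn ⟨⟨l, hKN ((m _).2 hl)⟩⁻¹, K.inv_mem ((m _).2 hl), Subtype.ext (by
        show (k : G) = l⁻¹ * v * l⁻¹⁻¹ * (v : G)⁻¹
        simp only [coe_subtype] at this
        nth_rw 1 [this]; group)⟩))
    (fun x hx => hJ hx)
    (fun e => hJ1 (by rw [← map_subgroupOf_eq_of_le (hJ.trans hKN), e, Subgroup.map_bot])) (fun v hv' v1 => (hv v hv' fun e => v1 (Subtype.ext e)).imp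
      (fun h k hk e => Subtype.ext (h k hk (congrArg Subtype.val e))) fun h j => (h j).trans
        ⟨fun ⟨k, hk, e⟩ => ⟨⟨k, hKN hk⟩, hk, Subtype.ext e⟩, fun ⟨k, hk, e⟩ => ⟨k, hk, congrArg Subtype.val e⟩⟩)
    with ⟨K', h1, h2, h3⟩ | h1 | h1
  · refine .inl ⟨K'.map N.subtype, fun x hx => ⟨⟨x, hKN (hJ hx)⟩, h1 hx, rfl⟩, ?_, ?_⟩
    · rwa [← map_subgroupOf_eq_of_le hKN, map_subtype_lt_map_subtype]
    · rintro g hg u hu _ ⟨k, hk, rfl⟩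
      obtain ⟨k', hk', e⟩ := h3 ⟨g, hg⟩ ⟨u, hu⟩ k hk
      exact ⟨k', ⟨k', hk', rfl⟩, congrArg Subtype.val e⟩
  · refine .inr (.inl fun u hu v hv h2 h3 => ?_)
    obtain ⟨c, e1, e2⟩ := h1 ⟨u, hu⟩ ⟨v, hv⟩ (fun e => h2 (congrArg Subtype.val e)) fun e => h3 (congrArg Subtype.val e)
    exact ⟨c, c.2, mul_inv_eq_iff_eq_mul.1 (congrArg Subtype.val e1), congrArg Subtype.val e2⟩
  · refine .inr (.inr fun c hc e u hu => ?_)
    obtain ⟨v, hv, e⟩ := h1 ⟨c, hc⟩ (Subtype.ext (mul_inv_eq_iff_eq_mul.2 e)) ⟨u, hu⟩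
    exact ⟨v, hv, congrArg Subtype.val e⟩

end

section
variable {G Ω : Type*} [Group G] [Finite G] [MulAction G Ω] {N Y R K : Subgroup G} {a b c : Ω} {s t u k y g : G} {p : ℕ}
variable [Finite Ω] (h : Mn G Ω) (hL : L1 G Ω) (hP : PS G a t s) (hK : (K : Set G) = KK ⊤ a t)
include h hP

include hL hK

theorem Mn.d4 (hW : St (CA G a) a (t • a) = ⊥) (hp : p.Prime) (p2 : p ≠ 2) (hy : y ∈ St ⊤ a (t • a))
    (hyt : y * t = t * y) (ho : orderOf y = p) (hf : ∀ k ∈ K, y * k = k * y → k = 1)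
    (hX : ∀ u ∈ IA (⊤ : Subgroup G) a, ∀ v ∈ IA (⊤ : Subgroup G) a, u * v = v * u) (hg : g • a = a) :
    ∃ q ∈ CA G a, q • t • a = g • t • a := by
  have m : ∀ x, x ∈ K ↔ x ∈ KK ⊤ a t := fun x => by rw [← hK]; rfl
  obtain ⟨kc, kn⟩ := K_normal hP.ti.2 (h.se.odd_St (Y := ⊤) hP.ta.symm) (St_conj (mem_top t) hP.ti) hK
  have hc : ∀ x : G, x • a = a → x * x = 1 → ∀ y : G, y • a = a → y * y = 1 → x * y = y * x := fun x h1 h2 y h3 h4 => by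
    by_cases x1 : x = 1
    · simp [x1]
    by_cases y1 : y = 1
    · simp [y1]
    exact hX x ⟨trivial, ⟨x1, h2⟩, h1⟩ y ⟨trivial, ⟨y1, h4⟩, h3⟩
  let E : Subgroup G :=
    { carrier := {s | s • a = a ∧ s * s = 1}
      one_mem' := ⟨one_smul _ _, mul_one _⟩
      mul_mem' := fun {x y} hx hy => ⟨by rw [mul_smul, hy.1, hx.1], by
        rw [mul_assoc, ← mul_assoc y, ← hc x hx.1 hx.2 y hy.1 hy.2, mul_assoc x y y, hy.2, mul_one, hx.2]⟩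
      inv_mem' := fun {x} hx => by rw [inv_eq_of_sq hx.2]; exact hx }
  have hn : ∀ v : G, v • a = a → ∀ u ∈ E, v * u * v⁻¹ ∈ E := fun v hv u hu =>
    ⟨by simpa [hv] using conj_fix hu.1 v, H5.RankOne.conj_sq hu.2 v⟩
  have hKa : ∀ k ∈ K, k • a = a := fun k hk => (mem_KK.1 ((m k).1 hk)).2.1
  have htr : ∀ u ∈ E, u ≠ 1 → ∃ k ∈ K, k * s * k⁻¹ = u := fun u hu u1 => by
    obtain ⟨k, hk, e⟩ := h.se.K_trans (mem_top t) hP.ti hP.ta ⟨trivial, hP.si, hP.sa⟩ ⟨trivial, ⟨u1, hu.2⟩, hu.1⟩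
    exact ⟨k, (m k).2 hk, e⟩
  have : IsMulCommutative E := ⟨⟨fun x y => Subtype.ext (hc x x.2.1 x.2.2 y y.2.1 y.2.2)⟩⟩
  have hsE : s ∈ E := ⟨hP.sa, hP.si.2⟩
  obtain ⟨⟨r, n, hr, hn0, hE⟩, hφ⟩ := H4.Util.exists_field_conj E (K : Set G) (fun k hk => hn k (hKa k hk))
    (fun x hx y hy u _ => by
      calc _ = (x * y) * u * (x * y)⁻¹ := by group
        _ = _ := by rw [kc x hx y hy]; group)
    (fun W hW hWn => by
      by_cases h : W = ⊥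
      · exact .inl h
      obtain ⟨⟨w, hw⟩, w1⟩ := ne_bot_iff_exists_ne_one.1 h
      obtain ⟨k, hk, rfl⟩ := htr w (hW hw) fun e => w1 (Subtype.ext e)
      have hsW : s ∈ W := by simpa [mul_assoc] using hWn _ (inv_mem hk) _ hw
      refine .inr (le_antisymm hW fun u hu => ?_)
      by_cases u1 : u = 1
      · rw [u1]; exact one_mem _
      obtain ⟨k, hk, rfl⟩ := htr u hu u1
      exact hWn _ hk _ hsW) hsE hP.si.1
  obtain rfl : r = 2 := by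
    have h2 := even_iff_two_dvd.1 (even_card_of_involution hsE hP.si.1 hP.si.2)
    rw [hE] at h2
    exact ((Nat.prime_dvd_prime_iff_eq Nat.prime_two hr).1 (Nat.prime_two.dvd_of_dvd_pow h2)).symm
  obtain ⟨φ, φ1, φ2, φ3, φ4, φ5, φ6, φ7⟩ := hφ (GaloisField 2 n) (by rw [GaloisField.card 2 n hn0.ne', hE])
  have inj : ∀ k ∈ K, ∀ k' ∈ K, k * s * k⁻¹ = k' * s * k'⁻¹ → k = k' := fun k hk k' hk' =>
    h.se.K_inj hP.ti hP.ta ((m k).1 hk) ((m k').1 hk') hP.si hP.sa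
  have φ0 : φ 0 = 1 := by simpa using φ4 0 0
  obtain ⟨k₀, rfl⟩ : ∃ k₀, K = zpowers k₀ := by
    obtain ⟨c, hc⟩ := IsCyclic.exists_monoid_generator (α := (GaloisField 2 n)ˣ)
    obtain ⟨k₀, hk₀, e⟩ := htr _ (φ1 c) fun e => c.ne_zero (φ3 (e.trans φ0.symm))
    obtain ⟨c', hc'⟩ := φ6 k₀ hk₀
    obtain rfl : c' = c := φ3 (by rw [← mul_one c', hc', φ5, e])
    refine ⟨k₀, le_antisymm (fun k hk => ?_) (zpowers_le.2 hk₀)⟩
    obtain ⟨x, hx⟩ := φ2 _ (hn k (hKa k hk) s hsE)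
    obtain ⟨i, hi⟩ := hc (Units.mk0 x fun e => hP.si.1 (by simpa [e, φ0, eq_comm] using hx))
    have : ∀ j : ℕ, φ (c ^ j) = k₀ ^ j * s * (k₀ ^ j)⁻¹ := fun j => by
      induction j with
      | zero => simp [φ5]
      | succ j ih => rw [pow_succ', hc', ih]; group
    rw [inj k hk _ (pow_mem hk₀ i) (by rw [← this, ← hx, ← Units.val_pow_eq_pow_val, show c ^ i = _ from hi]; rfl)]
    exact pow_mem (mem_zpowers _) i
  have hcard : Nat.card (zpowers k₀) = 2 ^ n - 1 := by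
    rw [← SetLike.coe_sort_coe, hK, h.se.card_K (mem_top t) hP.ti hP.ta (hP.lam a), ← hE,
      ← SetLike.coe_sort_coe, Nat.card_coe_set_eq, Nat.card_coe_set_eq,
      ← Set.ncard_sdiff_singleton_of_mem (show (1 : G) ∈ (E : Set G) from E.one_mem)]
    congr 1
    exact Set.ext fun x => ⟨fun h => ⟨⟨h.2.2, h.2.1.2⟩, h.2.1.1⟩, fun h => ⟨trivial, ⟨h.2, h.1.2⟩, h.1.1⟩⟩
  have gal : ∀ v ∈ St ⊤ a (t • a), v * t = t * v → ∃ i : ℕ, v * k₀ * v⁻¹ = k₀ ^ 2 ^ i := fun v hv e =>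
    gal_lemma (E := E) (fun x hx => hx.2) hsE hP.si.1 (hn _ (hKa _ (mem_zpowers _))) htr
      (fun k hk => h.se.K_comm hP.ti hP.ta ((m k).1 hk) hP.si hP.sa) ((hP.vs v hv).1 e) (hn v (mem_St.1 hv).2.1)
      (kn v hv _ (mem_zpowers _))
  obtain ⟨k, hk, k1⟩ := h.exists_K hP
  obtain ⟨i, hi⟩ := gal y hy hyt
  obtain ⟨rfl, c2⟩ := c1 hp (by rw [← Nat.card_zpowers, hcard]) (fun e => k1 (by simpa [e] using (m k).2 hk))
    (ho ▸ pow_orderOf_eq_one y) hi hf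
  have hV : ∀ d, (d ∈ St ⊤ a (t • a) ∧ d * t = t * d) ↔ d ∈ zpowers y := fun d => ⟨fun hd => by
    obtain ⟨l, hl⟩ := gal d hd.1 hd.2
    obtain ⟨j, hj⟩ := c2 d l hl
    have h1 := mul_mem (Subgroup.inv_mem _ (pow_mem hy j)) hd.1
    have h2 : Commute ((y ^ j)⁻¹ * d) k₀ := show _ = _ by rw [mul_assoc, eq_mul_of_mul_inv_eq hj]; group
    have h3 : Commute ((y ^ j)⁻¹ * d) s :=
      (hP.vs _ h1).1 (((show Commute y t from hyt).pow_left j).inv_left.mul_left hd.2)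
    rw [← inv_mul_eq_one.1 (mem_bot.1 (hW.le (mem_St.2 ⟨fun u hu => ?_, (mem_St.1 h1).2⟩)))]
    · exact pow_mem (mem_zpowers y) j
    obtain ⟨_, ⟨l, rfl⟩, rfl⟩ := htr u ⟨hu.2.2, hu.2.1.2⟩ hu.2.1.1
    exact (((h2.zpow_right l).mul_right h3).mul_right (h2.zpow_right l).inv_right).symm,
    fun hd => ⟨zpowers_le.2 hy hd, cent_zpowers hyt d hd⟩⟩
  rcases h.d3' hP hK (N := stabilizer G a) (J := zpowers k₀) (fun _ hg => hg) hKa le_rfl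
    (fun e => k1 (e.le ((m k).2 hk))) (fun v hv v1 => .inl
    fun k hk e => hf k hk (cent_zpowers e y (mem_zpowers_of_prime hp (ho ▸ pow_orderOf_eq_one y) ((hV v).1
      ⟨mem_St.2 ⟨trivial, (mem_St.1 hv.1).2⟩, mem_centralizer_singleton_iff.1 hv.2⟩) v1))) with
    ⟨K', h1, h2, -⟩ | h1 | h1
  · exact absurd h1 h2.not_ge
  · exact (d4b hP hK hp p2 hcard ho hV hf hX fun u hu v hv h2 h3 => (h1 u hu v hv h2 h3).imp fun _ h => h.2).elim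
  -- every element of `C_M(s)` acts on the field
  obtain ⟨σ, hσ⟩ := φ7 y (fun u => ⟨hn y (mem_St.1 hy).2.1 u, fun h => by
    simpa [mul_assoc] using conj_inv_mem (hn y (mem_St.1 hy).2.1) _ h⟩)
    (by rw [(hP.vs y hy).1 hyt, mul_inv_cancel_right]) (kn y hy)
  obtain ⟨l, hl⟩ := FiniteField.exists_forall_apply_eq_pow (ZMod 2) 2 (GaloisField 2 n)
    (AlgEquiv.ofRingEquiv (f := σ) fun x => DFunLike.congr_fun
      (Subsingleton.elim (σ.toRingHom.comp (algebraMap (ZMod 2) _)) (algebraMap _ _)) x)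
  have hl' : ∀ x, x ^ 2 ^ l = σ x := fun x => ((hl x).trans (by simp)).symm
  have hσ' : ∀ (j : ℕ) x, φ (x ^ 2 ^ (l * j)) = y ^ j * φ x * (y ^ j)⁻¹ := fun j => by
    induction j with
    | zero => simp
    | succ j ih =>
      intro x
      rw [mul_add, mul_one, pow_add, pow_mul, hl', hσ, ih]; group
  have frob : ∀ i : ℕ, ∃ j : ℕ, ∀ x : GaloisField 2 n, x ^ 2 ^ i = x ^ 2 ^ (l * j) := fun i => by
    have per : ∀ (c : ℕ) (x : GaloisField 2 n), x ^ 2 ^ (n * c) = x := fun c x => by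
      induction c with
      | zero => simp
      | succ c ih =>
        have := Fintype.ofFinite (GaloisField 2 n)
        rw [mul_add, mul_one, pow_add, pow_mul, ih, ← GaloisField.card 2 n hn0.ne', Nat.card_eq_fintype_card,
          FiniteField.pow_card]
    have : Nat.Coprime l n := ((Nat.Prime.coprime_iff_not_dvd hp).2 fun ⟨c, hc⟩ => k1 (hf k ((m k).2 hk) (by
      refine (cent_zpowers (w := y) ?_ k ((m k).2 hk)).symm
      refine mul_inv_eq_iff_eq_mul.1 (inj _ (kn y hy _ (mem_zpowers _)) _ (mem_zpowers _) ?_) |>.symm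
      obtain ⟨x, hx⟩ := φ2 _ (hn k₀ (hKa _ (mem_zpowers _)) s hsE)
      have := hσ' 1 x
      rw [mul_one, hc, per, pow_one, hx] at this
      calc _ = y * k₀ * (y⁻¹ * s * y) * k₀⁻¹ * y⁻¹ := by group
        _ = _ := .trans (by rw [mul_assoc y⁻¹, ← (hP.vs y hy).1 hyt]; group) this.symm))).symm
    obtain ⟨j, -, hj⟩ := Nat.exists_mul_mod_eq_one_of_coprime this hp.one_lt
    refine ⟨j * i, fun x => ?_⟩
    rw [← mul_assoc, ← Nat.div_add_mod (l * j) n, hj, add_mul, one_mul, mul_assoc, pow_add, pow_mul, per]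
  have mk : ∀ c : G, c • a = a → c * s = s * c → ∃ L : GaloisField 2 n → GaloisField 2 n,
      (∀ x, φ (L x) = c * φ x * c⁻¹) ∧ (∀ x y, L (x + y) = L x + L y) ∧ ∀ x, ∃ i : ℕ, L x = x ^ 2 ^ i :=
      fun c c1 c2 => by
    choose L hL using fun x => φ2 _ (hn c c1 _ (φ1 x))
    refine ⟨L, hL, fun x y => φ3 (by rw [φ4, hL, hL, hL, φ4]; group), fun x => ?_⟩
    by_cases x0 : φ x = 1
    · exact ⟨0, φ3 (by simp [hL, x0])⟩
    obtain ⟨v, hv, e⟩ := h1 c c1 c2 (φ x) ⟨trivial, ⟨x0, (φ1 x).2⟩, (φ1 x).1⟩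
    obtain ⟨j, rfl⟩ := H2.PGroup.exists_nat_pow ((hV v).1
      ⟨mem_St.2 ⟨trivial, (mem_St.1 hv.1).2⟩, mem_centralizer_singleton_iff.1 hv.2⟩)
    exact ⟨l * j, φ3 (by rw [hL, e, hσ'])⟩
  let O : G → Set Ω := fun c => {x | ∃ q ∈ CA G a, q • c • t • a = x}
  have key : ∀ c c' : G, ∀ j : ℕ, c • a = a → (∀ x, c' * φ x * c'⁻¹ = c * (y ^ j * φ x * (y ^ j)⁻¹) * c⁻¹) →
      c' • t • a ∈ O c := fun c c' j c1 e => ⟨c * (c⁻¹ * c' * (y ^ j)⁻¹) * c⁻¹, CA_conj c1 _ fun u hu => by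
        obtain ⟨x, hx⟩ := φ2 _ (hn _ (Subgroup.inv_mem _ (pow_mem (show y ∈ stabilizer G a from (mem_St.1 hy).2.1) j)) u
          ⟨hu.2.2, hu.2.1.2⟩)
        have := e x
        rw [hx] at this
        calc _ = c⁻¹ * (c * (y ^ j * ((y ^ j)⁻¹ * u * (y ^ j)⁻¹⁻¹) * (y ^ j)⁻¹) * c⁻¹) * c' * (y ^ j)⁻¹ := by group
          _ = _ := by rw [← this]; group, by
      rw [← mul_smul, inv_mul_cancel_right, mul_assoc c⁻¹, mul_inv_cancel_left, mul_smul,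
        (mem_St.1 (Subgroup.inv_mem _ (pow_mem hy j))).2.2]⟩
  have tri : ∀ c c' : G, c • a = a → c * s = s * c → c' • a = a → c' * s = s * c' →
      c • t • a ∈ O 1 ∨ c' • t • a ∈ O 1 ∨ c' • t • a ∈ O c := fun c c' c1 c2 c3 c4 => by
    obtain ⟨L, l1, l2, l3⟩ := mk c c1 c2
    obtain ⟨L', l1', l2', l3'⟩ := mk c' c3 c4
    rcases d4a hp p2 L L' l2 l2' l3 l3' with ⟨i, hi⟩ | ⟨i, hi⟩ | ⟨i, hi⟩ <;> obtain ⟨j, hj⟩ := frob i
    · exact .inl (key 1 c j (one_smul _ _) fun x => by rw [← l1, hi, hj, hσ']; simp)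
    · exact .inr (.inl (key 1 c' j (one_smul _ _) fun x => by rw [← l1', hi, hj, hσ']; simp))
    · exact .inr (.inr (key c c' j c1 fun x => by rw [← l1', hi, hj, l1, hσ']))
  have dec : ∀ g : G, g • a = a → ∃ c : G, c • a = a ∧ c * s = s * c ∧ c • t • a = g • t • a := fun g hg => by
    obtain ⟨k, hk, e⟩ := htr _ (hn g⁻¹ (inv_smul_eq_iff.2 hg.symm) s hsE) (hP.si.conj _).1
    exact ⟨g * k, by rw [mul_smul, hKa k hk, hg], by rw [mul_assoc, eq_mul_of_mul_inv_eq e]; group,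
      by rw [mul_smul, (mem_KK.1 ((m k).1 hk)).2.2.1]⟩
  obtain ⟨c, c1, c2, c3⟩ := dec g hg
  by_contra hne
  have hc0 : c • t • a ∉ O 1 := fun ⟨q, hq, e⟩ => hne ⟨q, hq, by rw [← c3, ← e, one_smul]⟩
  have disj : ∀ x ∈ O c, x ∉ O 1 := by
    rintro _ ⟨q, hq, rfl⟩ ⟨q', hq', e⟩
    exact hc0 ⟨q⁻¹ * q', mul_mem (Subgroup.inv_mem _ hq) hq', by rw [mul_smul, e, inv_smul_smul]⟩
  obtain ⟨q, hq, hd⟩ := Nat.exists_prime_and_dvd (card_eq_one.not.2 (show zpowers k₀ ≠ ⊥ from fun e =>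
    k1 (e.le ((m k).2 hk))))
  have := Fact.mk hq
  obtain ⟨⟨j, hj⟩, jq⟩ := exists_prime_orderOf_dvd_card' q hd
  rw [orderOf_mk] at jq
  obtain ⟨x, hx, e⟩ := exists_fix_of_not_dvd (P := zpowers j) (.of_card (n := 1) (by rw [Nat.card_zpowers, jq, pow_one]))
    (O c) (fun k hk x hx => by
      have hk' := mem_KK.1 ((m k).1 (zpowers_le.2 hj hk))
      obtain ⟨q, hq, rfl⟩ := hx
      obtain ⟨c', d1, d2, d3⟩ := dec (k * q * c) (by rw [mul_smul, mul_smul, c1, hP.CA_fix q hq, hk'.2.1])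
      rw [mul_smul, mul_smul] at d3
      rw [← d3]
      refine ((tri c c' c1 c2 d1 d2).resolve_left hc0).resolve_left fun ⟨q', hq', e⟩ => disj _ ⟨q, hq, rfl⟩
        ⟨k⁻¹ * q' * k⁻¹⁻¹, CA_conj (inv_smul_eq_iff.2 hk'.2.1.symm) _ hq', ?_⟩
      rw [one_smul] at e ⊢
      rw [inv_inv, mul_smul, mul_smul, hk'.2.2.1, e, d3, inv_smul_smul]) fun hd =>
      h.not_dvd hL hP hq (h.se.dvd_card_IA hP.ti hP.ta ((m j).1 hj) hq jq) hP.CA_fix (fun g => CA_conj)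
        (fun x hx e => hW.le (mem_St.2 ⟨hx, hP.CA_fix x hx, e⟩)) (hd.trans (by
          rw [show O c = orbit (CA G a) (c • t • a) from Set.ext fun x =>
            ⟨fun ⟨o, ho, e⟩ => ⟨⟨o, ho⟩, e⟩, fun ⟨o, e⟩ => ⟨o, o.2, e⟩⟩, ← index_stabilizer]
          exact index_dvd_card _))
  rcases K_fix h.se hL h.ft (mem_top t) hP.ti hP.ta (hP.lam a) ((m j).1 hj)
    (fun e => hq.one_lt.ne (by rw [← jq, e, orderOf_one])) (hP.lam x) (e j (mem_zpowers j)) with rfl | rfl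
  · obtain ⟨q, hq, e⟩ := hx
    exact hP.ta (smul_left_cancel (q * c) (by rw [mul_smul, e, mul_smul, c1, hP.CA_fix q hq]))
  · exact disj _ hx ⟨1, one_mem _, by simp⟩

omit hP hK in
theorem Mn.concl : Concl Ω (⊤ : Subgroup G) := fun a _ => by
  obtain ⟨t, s, hP⟩ := h.ps hL a
  by_cases hW : St (CA G a) a (t • a) = ⊥
  swap
  · obtain ⟨Q, h1, h2, h3, h4⟩ := h.caseW hL hP hW
    exact hP.concl h1 h2 h3 h4
  refine hP.concl hP.CA_fix (fun g => CA_conj) (fun g hg => ?_) fun x hx e => hW.le (mem_St.2 ⟨hx, hP.CA_fix x hx, e⟩)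
  by_cases h0 : St (M0 G a t) a (t • a) = ⊥
  · exact h.caseZ' hL hP hW h0 hg
  obtain ⟨p, R, y, hp, p2, hR, h1, h2, h3, hy, ho, h4⟩ := h.exists_y hL hP hW h0
  obtain ⟨K, hK⟩ := h.exists_Kgrp hL hP hW hp hR h1 h2 h3 hy ho h4
  have hyD : y ∈ St ⊤ a (t • a) := mem_St.2 ⟨trivial, (mem_St.1 (hR.le hy)).2⟩
  exact h.d4 hL hP hK hW hp p2 hyD (h3 y hy) ho (fun k hk => h.t1 hP hyD (h3 y hy) h4 k (hK.le hk))
    (fun u hu v hv => h.ab a u v hu.2.1 hv.2.1 hu.2.2 hv.2.2) hg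

end

end Cfsg.Agent.H1.Bx
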