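import Mathlib

set_option autoImplicit false

namespace Cfsg.Agent.H1.E8

attribute [-simp] zsmul_eq_mul

abbrev L := Fin 8 → ℤ

def B (u v : L) : ℤ :=
  2 * (u 0 * v 0 + u 1 * v 1 + u 2 * v 2 + u 3 * v 3 + u 4 * v 4 + u 5 * v 5 + u 6 * v 6 + u 7 * v 7)
    - (u 0 * v 2 + u 2 * v 0) - (u 1 * v 3 + u 3 * v 1) - (u 2 * v 3 + u 3 * v 2)
    - (u 3 * v 4 + u 4 * v 3) - (u 4 * v 5 + u 5 * v 4) - (u 5 * v 6 + u 6 * v 5)
    - (u 6 * v 7 + u 7 * v 6)

theorem B_comm (u v : L) : B u v = B v u := by simp only [B]; ring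
@[simp] theorem B_add_left (u u' v : L) : B (u + u') v = B u v + B u' v := by
  simp only [B, Pi.add_apply]; ring
@[simp] theorem B_add_right (u v v' : L) : B u (v + v') = B u v + B u v' := by
  simp only [B, Pi.add_apply]; ring
@[simp] theorem B_neg_left (u v : L) : B (-u) v = - B u v := by simp only [B, Pi.neg_apply]; ring
@[simp] theorem B_neg_right (u v : L) : B u (-v) = - B u v := by simp only [B, Pi.neg_apply]; ring
@[simp] theorem B_sub_left (u u' v : L) : B (u - u') v = B u v - B u' v := by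
  simp only [B, Pi.sub_apply]; ring
@[simp] theorem B_sub_right (u v v' : L) : B u (v - v') = B u v - B u v' := by
  simp only [B, Pi.sub_apply]; ring
@[simp] theorem B_smul_left (c : ℤ) (u v : L) : B (c • u) v = c * B u v := by
  simp only [B, Pi.smul_apply, smul_eq_mul]; ring
@[simp] theorem B_smul_right (c : ℤ) (u v : L) : B u (c • v) = c * B u v := by
  simp only [B, Pi.smul_apply, smul_eq_mul]; ring
@[simp] theorem B_zero_left (v : L) : B 0 v = 0 := by simp [B]
@[simp] theorem B_zero_right (v : L) : B v 0 = 0 := by simp [B]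

theorem sos (v : L) : 60 * B v v = 2 * v 3 ^ 2 + 30 * (2 * v 1 - v 3) ^ 2 + 30 * (2 * v 0 - v 2) ^ 2
    + 10 * (3 * v 2 - 2 * v 3) ^ 2 + 30 * (2 * v 7 - v 6) ^ 2 + 10 * (3 * v 6 - 2 * v 5) ^ 2
    + 5 * (4 * v 5 - 3 * v 4) ^ 2 + 3 * (5 * v 4 - 4 * v 3) ^ 2 := by
  simp only [B]; ring

theorem B_nonneg (v : L) : 0 ≤ B v v := by
  have := sos v
  nlinarith [sq_nonneg (v 3), sq_nonneg (2 * v 1 - v 3), sq_nonneg (2 * v 0 - v 2),
    sq_nonneg (3 * v 2 - 2 * v 3), sq_nonneg (2 * v 7 - v 6), sq_nonneg (3 * v 6 - 2 * v 5),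
    sq_nonneg (4 * v 5 - 3 * v 4), sq_nonneg (5 * v 4 - 4 * v 3)]

theorem eq_zero_of_B {v : L} (h : B v v = 0) : v = 0 := by
  have := sos v
  have h1 := sq_nonneg (v 3)
  have h2 := sq_nonneg (2 * v 1 - v 3)
  have h3 := sq_nonneg (2 * v 0 - v 2)
  have h4 := sq_nonneg (3 * v 2 - 2 * v 3)
  have h5 := sq_nonneg (2 * v 7 - v 6)
  have h6 := sq_nonneg (3 * v 6 - 2 * v 5)
  have h7 := sq_nonneg (4 * v 5 - 3 * v 4)
  have h8 := sq_nonneg (5 * v 4 - 4 * v 3)
  have e1 : v 3 = 0 := by rw [← sq_eq_zero_iff]; omega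
  have e2 : 2 * v 1 - v 3 = 0 := by rw [← sq_eq_zero_iff]; omega
  have e3 : 2 * v 0 - v 2 = 0 := by rw [← sq_eq_zero_iff]; omega
  have e4 : 3 * v 2 - 2 * v 3 = 0 := by rw [← sq_eq_zero_iff]; omega
  have e5 : 2 * v 7 - v 6 = 0 := by rw [← sq_eq_zero_iff]; omega
  have e6 : 3 * v 6 - 2 * v 5 = 0 := by rw [← sq_eq_zero_iff]; omega
  have e7 : 4 * v 5 - 3 * v 4 = 0 := by rw [← sq_eq_zero_iff]; omega
  have e8 : 5 * v 4 - 4 * v 3 = 0 := by rw [← sq_eq_zero_iff]; omega
  funext i
  fin_cases i <;> simp <;> omega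

theorem B_even (v : L) : ∃ k, B v v = 2 * k :=
  ⟨v 0 * v 0 + v 1 * v 1 + v 2 * v 2 + v 3 * v 3 + v 4 * v 4 + v 5 * v 5 + v 6 * v 6 + v 7 * v 7
    - v 0 * v 2 - v 1 * v 3 - v 2 * v 3 - v 3 * v 4 - v 4 * v 5 - v 5 * v 6 - v 6 * v 7, by
    simp only [B]; ring⟩

theorem two_le_B {v : L} (h : v ≠ 0) : 2 ≤ B v v := by
  obtain ⟨k, hk⟩ := B_even v
  have h1 := B_nonneg v
  have h2 : B v v ≠ 0 := fun h' => h (eq_zero_of_B h')
  omega

theorem lv_le {v : L} (h : B v v = 2) : v 3 ≤ 6 := by
  have := sos v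
  have h2 := sq_nonneg (2 * v 1 - v 3)
  have h3 := sq_nonneg (2 * v 0 - v 2)
  have h4 := sq_nonneg (3 * v 2 - 2 * v 3)
  have h5 := sq_nonneg (2 * v 7 - v 6)
  have h6 := sq_nonneg (3 * v 6 - 2 * v 5)
  have h7 := sq_nonneg (4 * v 5 - 3 * v 4)
  have h8 := sq_nonneg (5 * v 4 - 4 * v 3)
  by_contra hc
  have h9 : 7 ≤ v 3 := by omega
  rcases h9.eq_or_lt with e | e
  · have : 2 * v 1 - v 3 ≠ 0 := by omega
    have : 0 < (2 * v 1 - v 3) ^ 2 := by positivity
    have h10 : v 3 ^ 2 = 49 := by rw [← e]; norm_num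
    omega
  · nlinarith

section roots
variable {r s t : L}

theorem B_le (hr : B r r = 2) (hs : B s s = 2) : B r s ≤ 2 := by
  have := B_nonneg (r - s)
  simp [hr, hs, B_comm s r] at this
  omega

theorem le_B (hr : B r r = 2) (hs : B s s = 2) : -2 ≤ B r s := by
  have := B_nonneg (r + s)
  simp [hr, hs, B_comm s r] at this
  omega

theorem eq_of_B (hr : B r r = 2) (hs : B s s = 2) (h : B r s = 2) : s = r := by
  have : B (s - r) (s - r) = 0 := by simp [hr, hs, B_comm s r, h]
  exact sub_eq_zero.1 (eq_zero_of_B this)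

theorem eq_neg_of_B (hr : B r r = 2) (hs : B s s = 2) (h : B r s = -2) : s = -r := by
  have : B (s + r) (s + r) = 0 := by simp [hr, hs, B_comm s r, h]
  exact eq_neg_of_add_eq_zero_left (eq_zero_of_B this)

theorem root_add (hr : B r r = 2) (hs : B s s = 2) : B (r + s) (r + s) = 2 ↔ B r s = -1 := by
  simp [hr, hs, B_comm s r]; omega

theorem root_ne_zero (hr : B r r = 2) : r ≠ 0 := by
  rintro rfl; simp at hr

/-- simple roots -/
def al (i : Fin 8) : L := Pi.single i 1

theorem al_apply (i j : Fin 8) : al i j = if j = i then 1 else 0 := by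
  simp [al, Pi.single_apply]

theorem B_al (i : Fin 8) : B (al i) (al i) = 2 := by
  fin_cases i <;> simp [B, al]

theorem B_sum (u v : L) : B u v = ∑ i, v i * B u (al i) := by
  simp [Fin.sum_univ_eight, B, al]; ring

theorem B_al_al {i j : Fin 8} (h : i ≠ j) : B (al i) (al j) ≤ 0 := by
  revert i j; simp only [B, al_apply]; decide

def Pos (v : L) : Prop := ∀ i, 0 ≤ v i

theorem pos_or_neg (hr : B r r = 2) : Pos r ∨ Pos (-r) := by
  by_contra hc
  push Not at hc
  obtain ⟨h1, h2⟩ := hc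
  simp only [Pos, not_forall, not_le, Pi.neg_apply] at h1 h2
  obtain ⟨i, hi⟩ := h1
  obtain ⟨j, hj⟩ := h2
  set p : L := fun k => max (r k) 0
  set m : L := fun k => max (-r k) 0
  have e : r = p - m := by funext k; simp only [p, m, Pi.sub_apply]; omega
  have hp : p ≠ 0 := fun h => by have := congrFun h j; simp [p] at this; omega
  have hm : m ≠ 0 := fun h => by have := congrFun h i; simp [m] at this; omega
  have h1 := two_le_B hp
  have h2 := two_le_B hm
  have h3 : B p m ≤ 0 := by
    rw [B_sum]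
    refine Finset.sum_nonpos fun a _ => ?_
    rw [B_comm, B_sum, Finset.mul_sum]
    refine Finset.sum_nonpos fun b _ => ?_
    by_cases hab : a = b
    · subst hab
      have : m a * p a = 0 := by
        simp only [p, m]
        rcases le_total (r a) 0 with h | h
        · rw [max_eq_right h, mul_zero]
        · rw [max_eq_right (by omega : -r a ≤ 0), zero_mul]
      rw [← mul_assoc, this, zero_mul]
    · have := B_al_al hab
      have h4 : 0 ≤ m a := le_max_right _ _
      have h5 : 0 ≤ p b := le_max_right _ _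
      exact mul_nonpos_of_nonneg_of_nonpos h4 (mul_nonpos_of_nonneg_of_nonpos h5 this)
  rw [e] at hr
  simp [B_comm m p] at hr
  omega

theorem not_pos_neg (hr : B r r = 2) (h1 : Pos r) (h2 : Pos (-r)) : False := by
  apply root_ne_zero hr
  funext i
  have := h1 i; have := h2 i
  simp at *; omega

def ht (v : L) : ℤ := ∑ i, v i

theorem ht_add (u v : L) : ht (u + v) = ht u + ht v := by simp [ht, Finset.sum_add_distrib]
theorem ht_neg (u : L) : ht (-u) = - ht u := by simp [ht]
theorem ht_sub (u v : L) : ht (u - v) = ht u - ht v := by simp [ht, Finset.sum_sub_distrib]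
theorem ht_al (i : Fin 8) : ht (al i) = 1 := by simp [ht, al]
theorem ht_smul (c : ℤ) (u : L) : ht (c • u) = c * ht u := by simp [ht, Finset.mul_sum]

theorem ht_nonneg (h : Pos r) : 0 ≤ ht r := Finset.sum_nonneg fun i _ => h i

theorem le_ht (h : Pos r) (i : Fin 8) : r i ≤ ht r :=
  Finset.single_le_sum (f := r) (fun i _ => h i) (Finset.mem_univ i)

theorem ht_pos (hr : B r r = 2) (h : Pos r) : 0 < ht r := by
  rcases (ht_nonneg h).eq_or_lt with e | e
  · exfalso; apply root_ne_zero hr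
    funext i
    have := le_ht h i; have := h i
    simp; omega
  · exact e

theorem pos_iff (hr : B r r = 2) : Pos r ↔ 0 < ht r := by
  refine ⟨ht_pos hr, fun h => ?_⟩
  rcases pos_or_neg hr with h' | h'
  · exact h'
  · have := ht_nonneg h'; rw [ht_neg] at this; omega

theorem pos_of_coord (hr : B r r = 2) {i : Fin 8} (h : 0 < r i) : Pos r := by
  rcases pos_or_neg hr with h' | h'
  · exact h'
  · have := h' i; simp at this; omega

theorem pos_al (i : Fin 8) : Pos (al i) := fun j => by rw [al_apply]; split_ifs <;> simp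

/-- reflection -/
def rf (r v : L) : L := v - B r v • r

theorem rf_add (r u v : L) : rf r (u + v) = rf r u + rf r v := by
  simp only [rf, B_add_right, add_smul]; abel
theorem rf_neg (r u : L) : rf r (-u) = - rf r u := by
  simp only [rf, B_neg_right, neg_smul]; abel
theorem B_rf (hr : B r r = 2) (u v : L) : B (rf r u) (rf r v) = B u v := by
  simp [rf, hr, B_comm u r]; ring
theorem rf_rf (hr : B r r = 2) (u : L) : rf r (rf r u) = u := by
  simp only [rf, B_sub_right, B_smul_right, hr, sub_smul]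
  rw [mul_comm, mul_smul]; module
theorem rf_self (hr : B r r = 2) : rf r r = -r := by
  simp only [rf, hr]; module

theorem pos_rf (hr : B r r = 2) (h : Pos r) {i : Fin 8} (hi : r ≠ al i) : Pos (rf (al i) r) := by
  have h0 : ∃ j, j ≠ i ∧ 0 < r j := by
    by_contra hc
    push Not at hc
    have e : r = r i • al i := by
      funext j
      simp only [Pi.smul_apply, al_apply, smul_eq_mul]
      split_ifs with hj
      · simp [hj]
      · have := hc j hj; have := h j; omega
    have h2 := hr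
    rw [e] at h2
    simp [B_al] at h2
    have h3 : r i = 1 := by have := h i; nlinarith
    apply hi; rw [e, h3, one_smul]
  obtain ⟨j, hj, hj'⟩ := h0
  refine pos_of_coord (by rw [B_rf (B_al i), hr]) (i := j) ?_
  simp [rf, al_apply, hj, hj']

/-- descent inside a set of simple indices. -/
theorem exists_pos_B (hr : B r r = 2) (h : Pos r) : ∃ i, 0 < r i ∧ 0 < B r (al i) := by
  by_contra hc
  push Not at hc
  have : B r r ≤ 0 := by
    rw [B_sum]
    refine Finset.sum_nonpos fun i _ => ?_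
    rcases (h i).eq_or_lt with e | e
    · rw [← e, zero_mul]
    · exact mul_nonpos_of_nonneg_of_nonpos (h i) (hc i e)
  omega

theorem orth_m1 (hc : ∀ t, B t t = 2 → t 3 = -1 → B t r = 0) : r = 0 := by
  have h3 := hc (-al 3) (by simp [B_al]) (by simp [al_apply])
  have h1 := hc (-al 3 - al 1) (by simp only [B, al_apply, Pi.sub_apply, Pi.neg_apply]; decide)
    (by simp [al_apply])
  have h2 := hc (-al 3 - al 2) (by simp only [B, al_apply, Pi.sub_apply, Pi.neg_apply]; decide)
    (by simp [al_apply])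
  have h0 := hc (-al 3 - al 2 - al 0)
    (by simp only [B, al_apply, Pi.sub_apply, Pi.neg_apply]; decide) (by simp [al_apply])
  have h4 := hc (-al 3 - al 4) (by simp only [B, al_apply, Pi.sub_apply, Pi.neg_apply]; decide)
    (by simp [al_apply])
  have h5 := hc (-al 3 - al 4 - al 5)
    (by simp only [B, al_apply, Pi.sub_apply, Pi.neg_apply]; decide) (by simp [al_apply])
  have h6 := hc (-al 3 - al 4 - al 5 - al 6)
    (by simp only [B, al_apply, Pi.sub_apply, Pi.neg_apply]; decide) (by simp [al_apply])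
  have h7 := hc (-al 3 - al 4 - al 5 - al 6 - al 7)
    (by simp only [B, al_apply, Pi.sub_apply, Pi.neg_apply]; decide) (by simp [al_apply])
  simp only [B_sub_left, B_neg_left] at h0 h1 h2 h3 h4 h5 h6 h7
  have : B r r = 0 := by
    rw [B_sum, Fin.sum_univ_eight]
    simp only [B_comm r]
    have e3 : B (al 3) r = 0 := by omega
    have e1 : B (al 1) r = 0 := by omega
    have e2 : B (al 2) r = 0 := by omega
    have e0 : B (al 0) r = 0 := by omega
    have e4 : B (al 4) r = 0 := by omega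
    have e5 : B (al 5) r = 0 := by omega
    have e6 : B (al 6) r = 0 := by omega
    have e7 : B (al 7) r = 0 := by omega
    simp [e0, e1, e2, e3, e4, e5, e6, e7]
  exact eq_zero_of_B this

theorem exists_m1 (hr : B r r = 2) (hr3 : r 3 = 0) : ∃ t, B t t = 2 ∧ t 3 = -1 ∧ B t r = -1 := by
  have key : ∃ t, B t t = 2 ∧ t 3 = -1 ∧ B t r ≠ 0 := by
    by_contra hc
    push Not at hc
    exact root_ne_zero hr (orth_m1 hc)
  obtain ⟨t, ht, h3, h0⟩ := key
  have h1 := B_le ht hr
  have h2 := le_B ht hr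
  have h4 : B t r ≠ 2 := fun h => by rw [eq_of_B ht hr h] at hr3; omega
  have h5 : B t r ≠ -2 := fun h => by rw [eq_neg_of_B ht hr h] at hr3; simp at hr3; omega
  by_cases h6 : B t r = -1
  · exact ⟨t, ht, h3, h6⟩
  · have h7 : B t r = 1 := by omega
    exact ⟨t - r, by simp [ht, hr, h7, B_comm r t], by simp [h3, hr3], by simp [hr, h7]⟩

theorem exists_m1' (hr : B r r = 2) : ∃ t, B t t = 2 ∧ B t r = -1 := by
  by_contra hc
  push Not at hc
  have h1 : ∀ t, B t t = 2 → B t r ≠ 1 := fun t ht h => hc (-t) (by simp [ht]) (by simp [h])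
  have h2 : ∀ t, B t t = 2 → B t r = 0 ∨ r = t ∨ r = -t := fun t ht => by
    have := B_le ht hr; have := le_B ht hr; have := hc t ht; have := h1 t ht
    by_cases e : B t r = 2
    · exact Or.inr (Or.inl (eq_of_B ht hr e))
    by_cases e' : B t r = -2
    · exact Or.inr (Or.inr (eq_neg_of_B ht hr e'))
    left; omega
  have h3 : ∀ i, ∃ j, B (al j) (al i) = -1 := by
    simp only [B, al_apply]; decide
  have h4 : ∀ i, B (al i) r = 0 := fun i => by
    obtain ⟨j, hj⟩ := h3 i
    rcases h2 _ (B_al i) with h | h | h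
    · exact h
    · exact absurd (h ▸ hj) (hc _ (B_al j))
    · exact absurd (by rw [h]; simp [hj]) (h1 _ (B_al j))
  have : B r r = 0 := by
    rw [B_sum]; simp [B_comm r, h4]
  omega

end roots

abbrev Rt : Type := {v : L // B v v = 2}

instance : Finite Rt := by
  let f : Rt → (Fin 8 → Finset.Icc (-2 : ℤ) 2) := fun r i =>
    ⟨B (al i) r.1, Finset.mem_Icc.2 ⟨le_B (B_al i) r.2, B_le (B_al i) r.2⟩⟩
  refine Finite.of_injective f fun r s h => ?_
  have h1 : ∀ i, B (al i) r.1 = B (al i) s.1 := fun i => congrArg Subtype.val (congrFun h i)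
  have : B (r.1 - s.1) (r.1 - s.1) = 0 := by
    rw [B_sum]
    refine Finset.sum_eq_zero fun i _ => ?_
    rw [B_comm, B_sub_right, h1, sub_self, mul_zero]
  exact Subtype.ext (sub_eq_zero.1 (eq_zero_of_B this))

end Cfsg.Agent.H1.E8
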