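import Cfsg.Agent.H1.N1r

/-! The class equation for the extension by `S₄` without fusion. -/

set_option autoImplicit false

namespace Cfsg.Agent.H1.N1

/-- the finite check -/
def ChkN (c m u : ℕ) : Prop :=
  (6 * c * (u * (24 * c - m) + 1) - 1) % (u * m - 1) = 0 → (6 * c * (u * (24 * c - m) + 1) - 1) / (u * m - 1) % 4 = 1 →
  24 * c * ((6 * c * (u * (24 * c - m) + 1) - 1) / (u * m - 1)) % (24 * c - m) = 0 →
  ((24 * c - m) % 2 = 0 → 8 * c % (24 * c - m) = 0) → 24 * c - m < 5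

set_option synthInstance.maxSize 4000 in
instance (c m u : ℕ) : Decidable (ChkN c m u) := by unfold ChkN; infer_instance

theorem chkN3 : ∀ m < 24 * 3, ∀ v < 144 * 3 * 3 / m / 30 + 1, ∀ w < 30, ChkN 3 m (30 * v + w) := by decide +kernel

theorem chkN5 : ∀ m < 24 * 5, ∀ v < 144 * 5 * 5 / m / 30 + 1, ∀ w < 30, ChkN 5 m (30 * v + w) := by decide +kernel

theorem finN {c a l u : ℕ} (h : ∀ m < 24 * c, ∀ v < 144 * c * c / m / 30 + 1, ∀ w < 30, ChkN c m (30 * v + w)) (c0 : 0 < c) (u0 : 0 < u) (l5 : 4 < l) (a4 : a % 4 = 1) (d : l ∣ 24 * c * a) (ev : 2 ∣ l → l ∣ 8 * c)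
    (e : 24 * c * a * u + 1 = (a + 6 * c) * (u * l + 1)) : False := by
  obtain ⟨m, hm, m0⟩ : ∃ m, 24 * c = l + m ∧ 0 < m := ⟨24 * c - l, by
    have : l < 24 * c := by_contra fun k => by
      nlinarith [Nat.mul_le_mul_left (a * u) (not_lt.1 k), Nat.zero_le (c * u * l), Nat.zero_le a]
    omega⟩
  have el : 24 * c - m = l := by omega
  obtain ⟨δ, hδ⟩ : ∃ δ, u * m = δ + 1 := ⟨u * m - 1, by have := Nat.mul_pos u0 m0; omega⟩
  have e1 : a * δ + 1 = 6 * c * (u * l + 1) := by
    zify at e hm hδ ⊢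
    linear_combination e - a * u * hm - a * hδ
  have e2 : 6 * c * (u * l + 1) - 1 = δ * a := by rw [← e1, mul_comm]; rfl
  have δ0 : 0 < δ := Nat.pos_of_ne_zero (by rintro rfl; nlinarith [Nat.zero_le (c * u * l)])
  have e3 : δ * (a * m) + m = δ * (6 * c * l) + 144 * c * c := by
    zify at e1 hm hδ ⊢
    linear_combination m * e1 + 6 * c * l * hδ - 6 * c * hm
  have b : δ + m ≤ 144 * c * c := by
    have : 6 * c * l < a * m := Nat.lt_of_mul_lt_mul_left (a := δ) (by nlinarith)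
    nlinarith [Nat.mul_le_mul_left δ this]
  have := h m (by omega) (u / 30) (by
    have : u ≤ 144 * c * c / m := (Nat.le_div_iff_mul_le m0).2 (by omega)
    omega) (u % 30) (by omega)
  rw [Nat.div_add_mod, ChkN, el, hδ, Nat.add_sub_cancel, e2, Nat.mul_div_cancel_left _ δ0] at this
  exact absurd (this (Nat.mul_mod_right _ _) a4 (Nat.mod_eq_zero_of_dvd d)
    fun k => Nat.mod_eq_zero_of_dvd (ev (Nat.dvd_of_mod_eq_zero k))) (by omega)

theorem arN : ArN := fun ι s e n c N h hc _ hN ht => by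
  classical
  have c0 : 0 < c := by omega
  let f : ι → ℚ := fun i => (e i : ℚ)⁻¹ - (n i : ℚ)⁻¹ * (e i : ℚ)⁻¹
  have iv : ∀ {a b : ℕ}, 0 < a → a ≤ b → 0 < (b : ℚ)⁻¹ ∧ (b : ℚ)⁻¹ ≤ (a : ℚ)⁻¹ := fun p q =>
    ⟨inv_pos.2 (by exact_mod_cast p.trans_le q), inv_anti₀ (by exact_mod_cast p) (by exact_mod_cast q)⟩
  have f0 : ∀ i ∈ s, 0 ≤ f i := fun i hi => by
    have := iv one_pos (h.gt i hi).le
    have := iv two_pos (h.two i hi)
    simp only [f]; push_cast at *; nlinarith
  have pN := (iv h.pos le_rfl).1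
  have lt : ∑ i ∈ s, f i < 19 / 72 := by
    have := iv (a := 3) (b := c) (by decide) (by omega)
    change tau s e n < _
    push_cast at this; linarith
  have sm : ∀ i ∈ s, e i ≤ 4 → e i = 4 ∧ n i % 4 = 1 ∧ 1 / 5 ≤ f i := fun i hi k => by
    have a1 := (Finset.single_le_sum f0 hi).trans_lt lt
    have a2 := h.odd i hi
    have a3 := h.gt i hi
    have a4 := h.dvd i hi
    have a5 := h.two i hi
    simp only [f] at a1 ⊢
    interval_cases e i
    · have := iv (a := 3) (b := n i) (by decide) (by omega)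
      push_cast at *; linarith
    · have := iv (a := 7) (b := n i) (by decide) (by omega)
      push_cast at *; linarith
    · have := iv (a := 5) (b := n i) (by decide) (by omega)
      exact ⟨rfl, by omega, by push_cast at *; linarith⟩
  have uq : ∀ i ∈ s, ∀ j ∈ s, e i ≤ 4 → e j ≤ 4 → i = j := fun i hi j hj a b => by_contra fun k => by
    have := Finset.add_le_sum f0 hi hj k
    linarith [(sm i hi a).2.2, (sm j hj b).2.2]
  have le : (N : ℚ)⁻¹ ≤ (c : ℚ)⁻¹ / 24 := by
    have := (iv (a := 24 * c) (b := N) (by omega) (Nat.le_of_dvd h.pos ⟨_, hN⟩)).2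
    push_cast at this
    rwa [mul_inv_rev, ← div_eq_mul_inv] at this
  have c1 : (c : ℚ) ≠ 0 := by positivity
  by_cases ha : ∃ a ∈ s, e a ≤ 4 <;> by_cases hq : ∃ q ∈ s, 4 < e q
  · obtain ⟨a, ha, a4⟩ := ha
    obtain ⟨q, hq, q4⟩ := hq
    have aq : a ≠ q := by rintro rfl; omega
    have es : s = {a, q} := Finset.ext fun i => ⟨fun hi => by
      rcases le_or_gt (e i) 4 with k | k
      · simp [uq i hi a ha k a4]
      · simp [h.four i hi q hq k q4], by simp only [Finset.mem_insert, Finset.mem_singleton]; rintro (rfl | rfl) <;> assumption⟩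
    obtain ⟨e4, n4, -⟩ := sm a ha a4
    obtain ⟨u, hu⟩ := h.dvd q hq
    have g := h.gt q hq
    have g' := h.gt a ha
    have d := h.den q hq
    replace hu : n q = u * e q + 1 := by rw [mul_comm, ← hu]; omega
    rw [es, Finset.prod_pair aq] at hN
    rw [tau, es, Finset.sum_pair aq, e4, hN, hu] at ht
    refine finN (a := n a) (l := e q) (u := u) (by rcases hc with rfl | rfl; exacts [chkN3, chkN5]) c0
      (Nat.pos_of_ne_zero (by rintro rfl; omega)) q4 n4 (Nat.dvd_of_mul_dvd_mul_left (by omega : 0 < n q)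
        (by rwa [hN, ← mul_assoc, mul_comm _ (n q)] at d)) (h.ev q hq) ?_
    have : (n a : ℚ) ≠ 0 := by positivity
    have : (e q : ℚ) ≠ 0 := by positivity
    qify
    push_cast at ht
    field_simp at ht
    refine mul_left_cancel₀ this ?_
    linear_combination ht / 4
  · obtain ⟨a, ha, a4⟩ := ha
    have es : s = {a} := Finset.eq_singleton_iff_unique_mem.2 ⟨ha, fun i hi => uq i hi a ha (not_lt.1 fun k => hq ⟨i, hi, k⟩) a4⟩
    have := iv two_pos (h.gt a ha)
    rw [tau, es, Finset.sum_singleton, (sm a ha a4).1] at ht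
    push_cast at ht
    linarith
  · obtain ⟨q, hq, q4⟩ := hq
    have es : s = {q} := Finset.eq_singleton_iff_unique_mem.2 ⟨hq, fun i hi => h.four i hi q hq (not_le.1 fun k => ha ⟨i, hi, k⟩) q4⟩
    have a1 := iv two_pos (h.gt q hq)
    have a2 := iv (a := 5) (by decide) q4
    rw [tau, es, Finset.sum_singleton] at ht
    push_cast at *
    nlinarith [mul_pos a1.1 a2.1]
  · rw [tau, Finset.sum_eq_zero fun i hi => absurd ((le_or_gt (e i) 4).imp (⟨i, hi, ·⟩) (⟨i, hi, ·⟩)) (not_or.2 ⟨ha, hq⟩)] at ht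
    linarith

end Cfsg.Agent.H1.N1
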